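import Groth.Agent.ParaFormal.Elkik.Descent
import Groth.Agent.Hensel.Completion
import Groth.Agent.FDesc.Algebra
import Mathlib.Algebra.Module.FinitePresentation
import Mathlib.RingTheory.Flat.Equalizer
import Mathlib.RingTheory.Flat.FaithfullyFlat.Basic

/-!
# Approximating isomorphisms off `V(J)` along a map with the same completion
-/

set_option autoImplicit false

noncomputable section

universe u

open scoped TensorProduct
open TensorProduct

namespace Groth.Agent.ZarIsoLib

variable {A A' : Type u} [CommRing A] [CommRing A'] [Algebra A A']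

/-- `A → A'` is surjective modulo every power of `J`. -/
theorem dense_of_bijective (J : Ideal A)
    (hq : ∀ n : ℕ, Function.Bijective (Ideal.quotientMap (Ideal.map (algebraMap A A') (J ^ n)) (algebraMap A A')
      Ideal.le_comap_map)) (n : ℕ) (z : A') : ∃ a : A, z - algebraMap A A' a ∈ (J ^ n).map (algebraMap A A') := by
  obtain ⟨x, hx⟩ := (hq n).2 (Ideal.Quotient.mk _ z)
  obtain ⟨a, rfl⟩ := Ideal.Quotient.mk_surjective x
  exact ⟨a, Ideal.Quotient.eq.1 hx.symm⟩

/-- A map of Zariski pairs with the same completion is flat. -/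
theorem flat_of_bijective [IsNoetherianRing A] [IsNoetherianRing A'] (J : Ideal A)
    (hJ' : J.map (algebraMap A A') ≤ (⊥ : Ideal A').jacobson)
    (hq : ∀ n : ℕ, Function.Bijective (Ideal.quotientMap (Ideal.map (algebraMap A A') (J ^ n)) (algebraMap A A')
      Ideal.le_comap_map)) :
    Module.Flat A A' := by
  let J' := J.map (algebraMap A A')
  let C := AdicCompletion J' A'
  haveI : Module.FaithfullyFlat A' C := ParaFormal.Elkik.faithfullyFlat_completion J' hJ'
  have hJC : J.map (algebraMap A C) = J'.map (algebraMap A' C) := by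
    rw [Ideal.map_map, ← IsScalarTower.algebraMap_eq]
  haveI : IsAdicComplete (J.map (algebraMap A C)) C := by
    rw [hJC]; exact AdicCompletion.isAdicComplete_self J' (IsNoetherian.noetherian _)
  have hk : ∀ k, (J ^ k).map (algebraMap A C) = RingHom.ker (AdicCompletion.evalₐ J' k) := fun k => by
    rw [ParaFormal.Elkik.ker_evalₐ J' (IsNoetherian.noetherian _) k, Ideal.map_pow, hJC]
  have hsurj : ∀ (k : ℕ) (c : C), ∃ a, c - algebraMap A C a ∈ (J ^ k).map (algebraMap A C) := fun k c => by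
    obtain ⟨b, hb⟩ := Ideal.Quotient.mk_surjective (AdicCompletion.evalₐ J' k c)
    obtain ⟨a, ha⟩ := dense_of_bijective J hq k b
    refine ⟨a, ?_⟩
    rw [hk, RingHom.mem_ker, map_sub, sub_eq_zero, ← hb,
      IsScalarTower.algebraMap_apply A A' C, AlgHom.commutes, Ideal.Quotient.algebraMap_eq,
      Ideal.Quotient.eq, ← Ideal.map_pow]
    exact ha
  have hinj : ∀ k, ((J ^ k).map (algebraMap A C)).comap (algebraMap A C) ≤ J ^ k := fun k a ha => by
    rw [Ideal.mem_comap, hk, RingHom.mem_ker, IsScalarTower.algebraMap_apply A A' C, AlgHom.commutes,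
      Ideal.Quotient.algebraMap_eq, Ideal.Quotient.eq_zero_iff_mem, ← Ideal.map_pow] at ha
    rw [← Ideal.Quotient.eq_zero_iff_mem]
    refine (hq k).1 ?_
    rw [map_zero, Ideal.quotientMap_mk, Ideal.Quotient.eq_zero_iff_mem]
    exact ha
  obtain ⟨θ⟩ := Hensel.nonempty_completion_equiv J C hsurj hinj
  haveI : Module.Flat A (AdicCompletion J A) := AdicCompletion.flat_of_isNoetherian J
  haveI : Module.Flat A C := Module.Flat.of_linearEquiv θ.symm.toLinearEquiv
  exact FDesc.Algebra.flat_of_comp_faithfullyFlat (A := A) (B := A') (C := C)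

theorem faithfullyFlat_of_bijective [IsNoetherianRing A] [IsNoetherianRing A'] (J : Ideal A)
    (hJ : J ≤ (⊥ : Ideal A).jacobson) (hJ' : J.map (algebraMap A A') ≤ (⊥ : Ideal A').jacobson)
    (hq : ∀ n : ℕ, Function.Bijective (Ideal.quotientMap (Ideal.map (algebraMap A A') (J ^ n)) (algebraMap A A')
      Ideal.le_comap_map)) :
    Module.FaithfullyFlat A A' := by
  haveI := flat_of_bijective J hJ' hq
  refine ⟨fun {m} hm h => ?_⟩
  rw [Ideal.smul_top_eq_map, Submodule.restrictScalars_eq_top_iff] at h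
  have hJm : J ^ 1 ≤ m := (pow_one J).le.trans (hJ.trans (sInf_le ⟨bot_le, hm⟩))
  obtain ⟨q, -, hq1, hq2⟩ : ∃ q : Ideal (A ⧸ J ^ 1), q.IsMaximal ∧ m.map (Ideal.Quotient.mk (J ^ 1)) ≤ q ∧
      q = m.map (Ideal.Quotient.mk (J ^ 1)) := by
    refine ⟨_, ?_, le_rfl, rfl⟩
    exact Ideal.IsMaximal.map_of_surjective_of_ker_le Ideal.Quotient.mk_surjective (by rwa [Ideal.mk_ker])
  have htop : (m.map (Ideal.Quotient.mk (J ^ 1))).map
      (Ideal.quotientMap (Ideal.map (algebraMap A A') (J ^ 1)) (algebraMap A A') Ideal.le_comap_map) = ⊤ := by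
    rw [Ideal.map_map, Ideal.quotientMap_comp_mk, ← Ideal.map_map, h, Ideal.map_top]
  have h1 := congrArg (Ideal.comap (RingEquiv.ofBijective _ (hq 1)).toRingHom) htop
  rw [Ideal.comap_top] at h1
  have h2 : m.map (Ideal.Quotient.mk (J ^ 1)) = ⊤ := by
    rw [← h1]
    exact (Ideal.comap_map_of_bijective _ (hq 1)).symm
  have h3 := congrArg (Ideal.comap (Ideal.Quotient.mk (J ^ 1))) h2
  rw [Ideal.comap_map_of_surjective _ Ideal.Quotient.mk_surjective, Ideal.comap_top,
    ← RingHom.ker_eq_comap_bot, Ideal.mk_ker, sup_eq_left.2 hJm] at h3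
  exact hm.ne_top h3

section Tensor

variable {P : Type u} [AddCommGroup P] [Module A P] {ι : Type} [Fintype ι] [DecidableEq ι]

theorem lTensor_sum_single (v : A' ⊗[A] (ι → P)) :
    ∑ i, AlgebraTensorModule.lTensor A' A' (LinearMap.single A (fun _ : ι => P) i)
      (AlgebraTensorModule.lTensor A' A' (LinearMap.proj (φ := fun _ : ι => P) i) v) = v := by
  induction v using TensorProduct.induction_on with
  | zero => simp
  | tmul r f =>
    simp only [AlgebraTensorModule.lTensor_tmul, LinearMap.coe_proj, Function.eval, LinearMap.coe_single]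
    rw [← TensorProduct.tmul_sum, Finset.univ_sum_single]
  | add x y hx hy =>
    simp only [map_add, Finset.sum_add_distrib, hx, hy]

theorem lTensor_proj_single (i j : ι) (w : A' ⊗[A] P) :
    AlgebraTensorModule.lTensor A' A' (LinearMap.proj (φ := fun _ : ι => P) j)
      (AlgebraTensorModule.lTensor A' A' (LinearMap.single A (fun _ : ι => P) i) w) = if i = j then w else 0 := by
  induction w using TensorProduct.induction_on with
  | zero => simp
  | tmul r f =>
    simp only [AlgebraTensorModule.lTensor_tmul, LinearMap.coe_proj, Function.eval, LinearMap.coe_single]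
    rcases eq_or_ne i j with h | h
    · subst h; simp
    · simp [h, h.symm]
  | add x y hx hy =>
    simp only [map_add, hx, hy]
    split <;> simp

end Tensor

variable [IsNoetherianRing A] [Module.Flat A A']
  {M₁ M₂ : Type u} [AddCommGroup M₁] [Module A M₁] [Module.Finite A M₁]
  [AddCommGroup M₂] [Module A M₂] [Module.Finite A M₂]

/-- The approximation. -/
theorem exists_approx (J : Ideal A) (hJ' : J.map (algebraMap A A') ≤ (⊥ : Ideal A').jacobson)
    (hden : ∀ (k : ℕ) (z : A'), ∃ a : A, z - algebraMap A A' a ∈ (J ^ k).map (algebraMap A A'))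
    {m : ℕ} (a : Fin m → A) (hJa : J ≤ (Ideal.span (Set.range a)).radical) (c : ℕ)
    (h : Fin m → (A' ⊗[A] M₁ →ₗ[A'] A' ⊗[A] M₂)) (l : Fin m → (A' ⊗[A] M₂ →ₗ[A'] A' ⊗[A] M₁))
    (hh : ∀ i j x, algebraMap A A' (a j) ^ c • h i x = algebraMap A A' (a i) ^ c • h j x)
    (hl : ∀ i j y, algebraMap A A' (a j) ^ c • l i y = algebraMap A A' (a i) ^ c • l j y)
    (hlh : ∀ i x, l i (h i x) = algebraMap A A' (a i) ^ (2 * c) • x)
    (hhl : ∀ i y, h i (l i y) = algebraMap A A' (a i) ^ (2 * c) • y) :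
    ∃ g : Fin m → (M₁ →ₗ[A] M₂), (∀ i j x, a j ^ c • g i x = a i ^ c • g j x) ∧
      ∀ i, (∀ x, (g i).baseChange A' x = 0 → algebraMap A A' (a i) ^ (2 * c) • x = 0) ∧
        ∀ y, ∃ x, (g i).baseChange A' x = algebraMap A A' (a i) ^ (4 * c) • y := by
  classical
  haveI : Module.FinitePresentation A M₁ := Module.finitePresentation_of_finite A M₁
  let b : Fin m → A' := fun i => algebraMap A A' (a i)
  let J' := J.map (algebraMap A A')
  -- the base change of `Hom`
  have hB := Module.FinitePresentation.isBaseChange_map A M₁ M₂ A'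
  let β : A' ⊗[A] (M₁ →ₗ[A] M₂) ≃ₗ[A'] (A' ⊗[A] M₁ →ₗ[A'] A' ⊗[A] M₂) := hB.equiv
  have hβ : ∀ (r : A') (f : M₁ →ₗ[A] M₂), β (r ⊗ₜ[A] f) = r • f.baseChange A' := fun r f =>
    hB.equiv_tmul r f
  let Ψ : Fin m → (A' ⊗[A] (Fin m → (M₁ →ₗ[A] M₂)) →ₗ[A'] (A' ⊗[A] M₁ →ₗ[A'] A' ⊗[A] M₂)) := fun i =>
    β.toLinearMap ∘ₗ AlgebraTensorModule.lTensor A' A' (LinearMap.proj (φ := fun _ => M₁ →ₗ[A] M₂) i)
  have hΨ : ∀ i r f, Ψ i (r ⊗ₜ[A] f) = r • (f i).baseChange A' := fun i r f => by
    simp only [Ψ, LinearMap.comp_apply, AlgebraTensorModule.lTensor_tmul]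
    exact hβ r (f i)
  -- `h` as a tensor
  let v := ∑ i, AlgebraTensorModule.lTensor A' A' (LinearMap.single A (fun _ => M₁ →ₗ[A] M₂) i) (β.symm (h i))
  have hv : ∀ j, Ψ j v = h j := fun j => by
    simp only [Ψ, v, LinearMap.comp_apply, map_sum, lTensor_proj_single]
    rw [Finset.sum_eq_single j (fun i _ hi => by simp [hi]) (by simp)]
    simp
  -- the equations
  let Φ : (Fin m → (M₁ →ₗ[A] M₂)) →ₗ[A] (Fin m × Fin m → (M₁ →ₗ[A] M₂)) :=
    LinearMap.pi fun p => a p.2 ^ c • LinearMap.proj p.1 - a p.1 ^ c • LinearMap.proj p.2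
  have hΦ : ∀ (p : Fin m × Fin m) (w : A' ⊗[A] (Fin m → (M₁ →ₗ[A] M₂))) (x : A' ⊗[A] M₁),
      β (AlgebraTensorModule.lTensor A' A' (LinearMap.proj (φ := fun _ => M₁ →ₗ[A] M₂) p)
        (AlgebraTensorModule.lTensor A' A' Φ w)) x = b p.2 ^ c • Ψ p.1 w x - b p.1 ^ c • Ψ p.2 w x := fun p w x => by
    induction w using TensorProduct.induction_on with
    | zero => simp only [map_zero, LinearMap.zero_apply, smul_zero, sub_zero]
    | tmul r f =>
      rw [hΨ, hΨ, AlgebraTensorModule.lTensor_tmul, AlgebraTensorModule.lTensor_tmul, hβ]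
      simp only [Φ, LinearMap.coe_proj, Function.eval, LinearMap.pi_apply, LinearMap.sub_apply,
        LinearMap.smul_apply, LinearMap.baseChange_sub, LinearMap.baseChange_smul, b]
      simp only [smul_sub, ← map_pow, algebraMap_smul, smul_comm r]
    | add x y hx hy => simp only [map_add, LinearMap.add_apply, hx, hy, smul_add]; abel
  have hker : v ∈ LinearMap.ker (AlgebraTensorModule.lTensor A' A' Φ) := by
    rw [LinearMap.mem_ker, ← lTensor_sum_single (AlgebraTensorModule.lTensor A' A' Φ v)]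
    refine Finset.sum_eq_zero fun p _ => ?_
    have h0 : AlgebraTensorModule.lTensor A' A' (LinearMap.proj (φ := fun _ => M₁ →ₗ[A] M₂) p)
        (AlgebraTensorModule.lTensor A' A' Φ v) = 0 := by
      apply β.injective
      refine LinearMap.ext fun x => ?_
      rw [hΦ, hv, hv, map_zero, LinearMap.zero_apply, sub_eq_zero]
      exact hh p.1 p.2 x
    rw [h0, map_zero]
  rw [Module.Flat.ker_lTensor_eq] at hker
  obtain ⟨w, hw⟩ := hker
  -- the exponent
  let I₂ := Ideal.span (Set.range fun i => b i ^ (2 * c))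
  obtain ⟨e, he⟩ : ∃ e, (J ^ e).map (algebraMap A A') ≤ J' * I₂ := by
    have hrad : J ≤ (Ideal.span (Set.range fun i => a i ^ (2 * c))).radical := by
      refine hJa.trans (Ideal.radical_le_radical_iff.2 (Ideal.span_le.2 ?_))
      rintro _ ⟨i, rfl⟩
      exact ⟨2 * c, Ideal.subset_span ⟨i, rfl⟩⟩
    obtain ⟨e, he⟩ := Ideal.exists_pow_le_of_le_radical_of_fg hrad (IsNoetherian.noetherian J)
    refine ⟨e + 1, ?_⟩
    rw [pow_succ', Ideal.map_mul]
    refine Ideal.mul_mono le_rfl ((Ideal.map_mono he).trans ?_)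
    rw [Ideal.map_span, Ideal.span_le]
    rintro _ ⟨_, ⟨i, rfl⟩, rfl⟩
    exact Ideal.subset_span ⟨i, (map_pow _ _ _).symm⟩
  -- multiples of `l ∘ t` extend
  let T : Submodule A' (A' ⊗[A] M₁) := J' • ⊤
  have key : ∀ t : Fin m → (A' ⊗[A] M₁ →ₗ[A'] A' ⊗[A] M₂),
      (∀ i j x, b j ^ c • t i x = b i ^ c • t j x) → ∀ s ∈ J' * I₂,
      ∃ D : A' ⊗[A] M₁ →ₗ[A'] A' ⊗[A] M₁, (∀ x, D x ∈ T) ∧
        ∀ k x, s • l k (t k x) = b k ^ (2 * c) • D x := by
    intro t ht s hs
    refine Submodule.mul_induction_on hs (fun j hj q hq => ?_) ?_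
    · induction hq using Submodule.span_induction with
      | mem q hq =>
        obtain ⟨i, rfl⟩ := hq
        refine ⟨j • (l i ∘ₗ t i), fun x => Submodule.smul_mem_smul hj trivial, fun k x => ?_⟩
        have h1 : b i ^ (2 * c) • l k (t k x) = b k ^ (2 * c) • l i (t i x) := by
          calc b i ^ (2 * c) • l k (t k x) = b i ^ c • b i ^ c • l k (t k x) := by rw [smul_smul, ← pow_add, two_mul]
            _ = b k ^ c • b i ^ c • l i (t k x) := by rw [hl k i, smul_comm]
            _ = b k ^ c • l i (b k ^ c • t i x) := by rw [ht i k x, map_smul]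
            _ = b k ^ (2 * c) • l i (t i x) := by rw [map_smul, smul_smul, ← pow_add, two_mul]
        simp only [LinearMap.smul_apply, LinearMap.comp_apply]
        rw [mul_smul, h1, smul_comm]
      | zero => exact ⟨0, fun x => by simp, fun k x => by simp⟩
      | add q₁ q₂ _ _ h₁ h₂ =>
        obtain ⟨D₁, hD₁, e₁⟩ := h₁
        obtain ⟨D₂, hD₂, e₂⟩ := h₂
        exact ⟨D₁ + D₂, fun x => T.add_mem (hD₁ x) (hD₂ x), fun k x => by
          simp [mul_add, add_smul, e₁, e₂, smul_add]⟩
      | smul r q _ h₁ =>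
        obtain ⟨D₁, hD₁, e₁⟩ := h₁
        refine ⟨r • D₁, fun x => T.smul_mem r (hD₁ x), fun k x => ?_⟩
        rw [smul_eq_mul, mul_left_comm, mul_smul, e₁, LinearMap.smul_apply, smul_comm]
    · rintro s₁ s₂ ⟨D₁, hD₁, e₁⟩ ⟨D₂, hD₂, e₂⟩
      exact ⟨D₁ + D₂, fun x => T.add_mem (hD₁ x) (hD₂ x), fun k x => by
        simp [add_smul, e₁, e₂, smul_add]⟩
  -- decompose
  have dec : ∀ w : A' ⊗[A] LinearMap.ker Φ, ∃ g ∈ LinearMap.ker Φ,
      ∃ D : A' ⊗[A] M₁ →ₗ[A'] A' ⊗[A] M₁, (∀ x, D x ∈ T) ∧ ∀ k x,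
        l k (Ψ k (AlgebraTensorModule.lTensor A' A' (LinearMap.ker Φ).subtype w) x) =
          l k ((g k).baseChange A' x) + b k ^ (2 * c) • D x := by
    intro w
    induction w using TensorProduct.induction_on with
    | zero => exact ⟨0, zero_mem _, 0, fun x => by simp, fun k x => by simp⟩
    | tmul r f =>
      obtain ⟨a₀, ha₀⟩ := hden e r
      have hf : ∀ i j x, b j ^ c • (f.1 i).baseChange A' x = b i ^ c • (f.1 j).baseChange A' x := fun i j x => by
        have h0 : Φ f.1 (i, j) = 0 := congrFun f.2 (i, j)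
        simp only [Φ, LinearMap.pi_apply, LinearMap.sub_apply, LinearMap.smul_apply, LinearMap.coe_proj,
          Function.eval, sub_eq_zero] at h0
        have h1 := congrArg (fun f : M₁ →ₗ[A] M₂ => f.baseChange A' x) h0
        simp only [LinearMap.baseChange_smul, LinearMap.smul_apply] at h1
        simp only [b, ← map_pow, algebraMap_smul]
        exact h1
      obtain ⟨D, hD, eD⟩ := key (fun i => (f.1 i).baseChange A') hf _ (he ha₀)
      refine ⟨a₀ • f.1, Submodule.smul_mem _ a₀ f.2, D, hD, fun k x => ?_⟩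
      rw [AlgebraTensorModule.lTensor_tmul, Submodule.subtype_apply, hΨ, ← eD k x]
      simp only [Pi.smul_apply, LinearMap.baseChange_smul, LinearMap.smul_apply, map_smul]
      rw [← algebraMap_smul A' a₀ ((f.1 k).baseChange A' x), map_smul, ← add_smul, add_sub_cancel]
    | add x y hx hy =>
      obtain ⟨g₁, hg₁, D₁, hD₁, e₁⟩ := hx
      obtain ⟨g₂, hg₂, D₂, hD₂, e₂⟩ := hy
      refine ⟨g₁ + g₂, add_mem hg₁ hg₂, D₁ + D₂, fun x => T.add_mem (hD₁ x) (hD₂ x), fun k x => ?_⟩
      simp only [map_add, LinearMap.add_apply, Pi.add_apply, LinearMap.baseChange_add, smul_add, e₁, e₂]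
      abel
  obtain ⟨g, hg, D, hD, eD⟩ := dec w
  -- `1 - D` is bijective
  have hbij : Function.Bijective (LinearMap.id (R := A') (M := A' ⊗[A] M₁) - D) := by
    apply OrzechProperty.bijective_of_surjective_endomorphism
    rw [← LinearMap.range_eq_top, eq_top_iff]
    refine Submodule.le_of_le_smul_of_le_jacobson_bot Module.Finite.fg_top hJ' fun x _ => ?_
    refine Submodule.mem_sup.2 ⟨x - D x, ⟨x, rfl⟩, D x, hD x, by abel⟩
  have hgk : ∀ k x, l k ((g k).baseChange A' x) = b k ^ (2 * c) • (LinearMap.id (R := A') (M := A' ⊗[A] M₁) - D) x := fun k x => by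
    have h1 := eD k x
    rw [hw, hv, hlh] at h1
    rw [LinearMap.sub_apply, LinearMap.id_apply, smul_sub, h1]
    abel
  refine ⟨g, fun i j x => ?_, fun i => ⟨fun x hx => ?_, fun y => ?_⟩⟩
  · have h0 : Φ g (i, j) = 0 := congrFun hg (i, j)
    simp only [Φ, LinearMap.pi_apply, LinearMap.sub_apply, LinearMap.smul_apply, LinearMap.coe_proj,
      Function.eval, sub_eq_zero] at h0
    exact LinearMap.congr_fun h0 x
  · have h1 := hgk i x
    rw [hx, map_zero, ← map_smul] at h1
    exact hbij.1 (h1.symm.trans (map_zero _).symm)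
  · obtain ⟨x, hx⟩ := hbij.2 (l i y)
    refine ⟨b i ^ (2 * c) • x, ?_⟩
    have h1 := congrArg (h i) (hgk i x)
    rw [hhl, hx, map_smul, hhl] at h1
    rw [map_smul, h1, smul_smul, ← pow_add]
    congr 2
    omega

end Groth.Agent.ZarIsoLib
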