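import Mathlib.AlgebraicGeometry.Modules.Tilde
import Mathlib.Algebra.Module.FinitePresentation

/-!
# Maps between `tilde`s over an open of an affine scheme
-/

set_option autoImplicit false

noncomputable section

universe u

open CategoryTheory AlgebraicGeometry TopologicalSpace Opposite

namespace Groth.Agent.ZarIsoLib

variable {R : CommRingCat.{u}}

/-- The map `M → Γ(M^~, W)`. -/
def toSec (M : ModuleCat.{u} R) (W : (Spec R).Opens) : M →ₗ[R] Γ(tilde M, W) :=
  (tilde.toOpen M W).hom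

theorem res_toSec (M : ModuleCat.{u} R) {W W' : (Spec R).Opens} (h : W' ≤ W) (x : M) :
    (tilde M).presheaf.map (homOfLE h).op (toSec M W x) = toSec M W' x :=
  rfl

theorem isLocalizedModule_toSec (M : ModuleCat.{u} R) (s : R) {W : (Spec R).Opens}
    (hW : W = PrimeSpectrum.basicOpen s) : IsLocalizedModule (Submonoid.powers s) (toSec M W) := by
  subst hW
  exact inferInstanceAs (IsLocalizedModule.Away s (tilde.toOpen M (PrimeSpectrum.basicOpen s)).hom)

variable {F G : (Spec R).Modules} {P : (Spec R).Opens}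

/-- A map over `P` on sections over the opens inside `P`. -/
def appL (f : F.restrict P.ι ⟶ G.restrict P.ι) (V : (P : Scheme.{u}).Opens) :
    Γ(F, P.ι ''ᵁ V) →ₗ[R] Γ(G, P.ι ''ᵁ V) where
  toFun x := (G.restrictAppIso P.ι V).hom (f.app V ((F.restrictAppIso P.ι V).inv x))
  map_add' x y := by simp only [map_add]
  map_smul' r x := by
    rw [RingHom.id_apply, Scheme.Modules.smul_Spec_def, Scheme.Modules.smul_Spec_def,
      Scheme.Modules.smul_restrictAppIso_inv_apply, Scheme.Modules.Hom.app_smul,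
      Scheme.Modules.smul_restrictAppIso_hom_apply]
    congr 1
    simp
    rfl

theorem appL_res (f : F.restrict P.ι ⟶ G.restrict P.ι) {V V' : (P : Scheme.{u}).Opens} (h : V' ≤ V)
    (x : Γ(F, P.ι ''ᵁ V)) :
    G.presheaf.map (homOfLE (Scheme.Hom.image_mono P.ι h)).op (appL f V x) =
      appL f V' (F.presheaf.map (homOfLE (Scheme.Hom.image_mono P.ι h)).op x) :=
  (ConcreteCategory.congr_hom (f.mapPresheaf.naturality (homOfLE h).op) x).symm

theorem appL_appL {f : F.restrict P.ι ⟶ G.restrict P.ι} {g : G.restrict P.ι ⟶ F.restrict P.ι}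
    (h : f ≫ g = 𝟙 _) (V : (P : Scheme.{u}).Opens) (x : Γ(F, P.ι ''ᵁ V)) :
    appL g V (appL f V x) = x := by
  have h1 : (f ≫ g).app V = 𝟙 _ := by rw [h]; rfl
  exact ConcreteCategory.congr_hom h1 x

theorem image_preimage_of_le {U W : (Spec R).Opens} (h : W ≤ U) : U.ι ''ᵁ (U.ι ⁻¹ᵁ W) = W := by
  rw [Scheme.Hom.image_preimage_eq_opensRange_inf, Scheme.Opens.opensRange_ι, inf_eq_right.2 h]

/-- A uniform power. -/
theorem exists_uniform {ι : Type*} [Fintype ι] (p : ι → ℕ → Prop) (hmono : ∀ i e e', e ≤ e' → p i e → p i e')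
    (h : ∀ i, ∃ e, p i e) : ∃ e, ∀ i, p i e := by
  classical
  choose e he using h
  exact ⟨Finset.univ.sup e, fun i => hmono i _ _ (Finset.le_sup (Finset.mem_univ i)) (he i)⟩

/-- A map into `M` vanishing on `D(s)` is killed by a power of `s`. -/
theorem exists_pow_smul_eq {N M : ModuleCat.{u} R} [Module.Finite R N] (s : R) {W : (Spec R).Opens}
    (hW : W = PrimeSpectrum.basicOpen s) (θ θ' : N →ₗ[R] M)
    (h : ∀ x, toSec M W (θ x) = toSec M W (θ' x)) : ∃ e : ℕ, ∀ x, s ^ e • θ x = s ^ e • θ' x := by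
  haveI := isLocalizedModule_toSec M s hW
  obtain ⟨⟨t, e, rfl⟩, ht⟩ := Module.Finite.exists_smul_of_comp_eq_of_isLocalizedModule
    (Submonoid.powers s) (toSec M W) θ θ' (LinearMap.ext h)
  exact ⟨e, fun x => LinearMap.congr_fun ht x⟩

/-- An isomorphism over `P` given by module maps, up to powers. -/
theorem exists_data [IsNoetherianRing R] (N₁ N₂ : ModuleCat.{u} R) [Module.Finite R N₁] [Module.Finite R N₂]
    (f : (tilde N₁).restrict P.ι ≅ (tilde N₂).restrict P.ι) {m : ℕ} (b : Fin m → R)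
    (hb : ∀ i, PrimeSpectrum.basicOpen (b i) ≤ P) :
    ∃ (c : ℕ) (h : Fin m → (N₁ →ₗ[R] N₂)) (l : Fin m → (N₂ →ₗ[R] N₁)),
      (∀ i j x, b j ^ c • h i x = b i ^ c • h j x) ∧ (∀ i j y, b j ^ c • l i y = b i ^ c • l j y) ∧
      (∀ i x, l i (h i x) = b i ^ (2 * c) • x) ∧ (∀ i y, h i (l i y) = b i ^ (2 * c) • y) := by
  let V : Fin m → (P : Scheme.{u}).Opens := fun i => P.ι ⁻¹ᵁ PrimeSpectrum.basicOpen (b i)
  have hV : ∀ i, P.ι ''ᵁ V i = PrimeSpectrum.basicOpen (b i) := fun i => image_preimage_of_le (hb i)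
  haveI hN₁ : Module.FinitePresentation R N₁ := Module.finitePresentation_of_finite R N₁
  haveI hN₂ : Module.FinitePresentation R N₂ := Module.finitePresentation_of_finite R N₂
  have hex : ∀ (A B : ModuleCat.{u} R) [Module.FinitePresentation R A]
      (g : (tilde A).restrict P.ι ⟶ (tilde B).restrict P.ι) (i : Fin m),
      ∃ (e : ℕ), ∃ h : A →ₗ[R] B, ∀ x, toSec B (P.ι ''ᵁ V i) (h x) =
        b i ^ e • appL g (V i) (toSec A (P.ι ''ᵁ V i) x) := by
    intro A B _ g i
    haveI := isLocalizedModule_toSec B (b i) (hV i)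
    obtain ⟨h, ⟨t, e, rfl⟩, ht⟩ := Module.FinitePresentation.exists_lift_of_isLocalizedModule
      (Submonoid.powers (b i)) (toSec B (P.ι ''ᵁ V i)) (appL g (V i) ∘ₗ toSec A (P.ι ''ᵁ V i))
    exact ⟨e, h, fun x => LinearMap.congr_fun ht x⟩
  have huni : ∀ (A B : ModuleCat.{u} R) [Module.FinitePresentation R A]
      (g : (tilde A).restrict P.ι ⟶ (tilde B).restrict P.ι),
      ∃ (e : ℕ), ∀ i, ∃ h : A →ₗ[R] B, ∀ x, toSec B (P.ι ''ᵁ V i) (h x) =
        b i ^ e • appL g (V i) (toSec A (P.ι ''ᵁ V i) x) := by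
    intro A B _ g
    refine exists_uniform _ (fun i e e' hle => ?_) (hex A B g)
    rintro ⟨h, hh⟩
    refine ⟨b i ^ (e' - e) • h, fun x => ?_⟩
    rw [LinearMap.smul_apply, map_smul, hh, smul_smul, ← pow_add, Nat.sub_add_cancel hle]
  obtain ⟨c₁, hc₁⟩ := huni N₁ N₂ f.hom
  obtain ⟨c₂, hc₂⟩ := huni N₂ N₁ f.inv
  choose h₀ hh₀ using hc₁
  choose l₀ hl₀ using hc₂
  let c := c₁ + c₂
  let h₁ : Fin m → (N₁ →ₗ[R] N₂) := fun i => b i ^ c₂ • h₀ i
  let l₁ : Fin m → (N₂ →ₗ[R] N₁) := fun i => b i ^ c₁ • l₀ i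
  have hh₁ : ∀ i x, toSec N₂ (P.ι ''ᵁ V i) (h₁ i x) = b i ^ c • appL f.hom (V i) (toSec N₁ (P.ι ''ᵁ V i) x) :=
    fun i x => by
      simp only [h₁, c, LinearMap.smul_apply, map_smul, hh₀, smul_smul, ← pow_add, add_comm c₁]
  have hl₁ : ∀ i y, toSec N₁ (P.ι ''ᵁ V i) (l₁ i y) = b i ^ c • appL f.inv (V i) (toSec N₂ (P.ι ''ᵁ V i) y) :=
    fun i y => by
      simp only [l₁, c, LinearMap.smul_apply, map_smul, hl₀, smul_smul, ← pow_add]
  -- on overlaps
  have hW : ∀ i j, P.ι ''ᵁ (V i ⊓ V j) = PrimeSpectrum.basicOpen (b i * b j) := fun i j => by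
    show P.ι ''ᵁ (P.ι ⁻¹ᵁ (PrimeSpectrum.basicOpen (b i) ⊓ PrimeSpectrum.basicOpen (b j))) = _
    rw [PrimeSpectrum.basicOpen_mul]
    exact image_preimage_of_le (inf_le_left.trans (hb i))
  have hcompat : ∀ (A B : ModuleCat.{u} R) [Module.Finite R A]
      (g : (tilde A).restrict P.ι ⟶ (tilde B).restrict P.ι) (k : Fin m → (A →ₗ[R] B)),
      (∀ i x, toSec B (P.ι ''ᵁ V i) (k i x) = b i ^ c • appL g (V i) (toSec A (P.ι ''ᵁ V i) x)) →
      ∃ e, ∀ p : Fin m × Fin m, ∀ x,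
        (b p.1 * b p.2) ^ e • b p.2 ^ c • k p.1 x = (b p.1 * b p.2) ^ e • b p.1 ^ c • k p.2 x := by
    intro A B _ g k hk
    refine exists_uniform _ (fun p e e' hle hp x => ?_) fun p => ?_
    · rw [← Nat.sub_add_cancel hle, pow_add, mul_smul, mul_smul, hp]
    · refine exists_pow_smul_eq (b p.1 * b p.2) (hW p.1 p.2) (b p.2 ^ c • k p.1) (b p.1 ^ c • k p.2) fun x => ?_
      have key : ∀ i, (hle : V p.1 ⊓ V p.2 ≤ V i) → toSec B (P.ι ''ᵁ (V p.1 ⊓ V p.2)) (k i x) =
          b i ^ c • appL g (V p.1 ⊓ V p.2) (toSec A (P.ι ''ᵁ (V p.1 ⊓ V p.2)) x) := fun i hle => by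
        have h1 := congrArg ((tilde B).presheaf.map (homOfLE (Scheme.Hom.image_mono P.ι hle)).op) (hk i x)
        rw [Scheme.Modules.map_smul_Spec, appL_res g hle, res_toSec, res_toSec] at h1
        exact h1
      simp only [LinearMap.smul_apply, map_smul, key p.1 inf_le_left, key p.2 inf_le_right, smul_smul, mul_comm]
  obtain ⟨e₁, he₁⟩ := hcompat N₁ N₂ f.hom h₁ hh₁
  obtain ⟨e₂, he₂⟩ := hcompat N₂ N₁ f.inv l₁ hl₁
  obtain ⟨e₃, he₃⟩ : ∃ e, ∀ i x, b i ^ e • l₁ i (h₁ i x) = b i ^ e • b i ^ (2 * c) • x := by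
    refine exists_uniform _ (fun i e e' hle hp x => ?_) fun i => ?_
    · rw [← Nat.sub_add_cancel hle, pow_add, mul_smul, mul_smul, hp]
    · refine exists_pow_smul_eq (b i) (hV i) (l₁ i ∘ₗ h₁ i) (b i ^ (2 * c) • LinearMap.id) fun x => ?_
      rw [LinearMap.comp_apply, hl₁, hh₁, map_smul, appL_appL f.hom_inv_id, LinearMap.smul_apply,
        LinearMap.id_apply, map_smul, smul_smul, ← pow_add, two_mul]
  obtain ⟨e₄, he₄⟩ : ∃ e, ∀ i y, b i ^ e • h₁ i (l₁ i y) = b i ^ e • b i ^ (2 * c) • y := by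
    refine exists_uniform _ (fun i e e' hle hp x => ?_) fun i => ?_
    · rw [← Nat.sub_add_cancel hle, pow_add, mul_smul, mul_smul, hp]
    · refine exists_pow_smul_eq (b i) (hV i) (h₁ i ∘ₗ l₁ i) (b i ^ (2 * c) • LinearMap.id) fun x => ?_
      rw [LinearMap.comp_apply, hh₁, hl₁, map_smul, appL_appL f.inv_hom_id, LinearMap.smul_apply,
        LinearMap.id_apply, map_smul, smul_smul, ← pow_add, two_mul]
  let e := e₁ + e₂ + e₃ + e₄
  have up : ∀ {M : ModuleCat.{u} R} {r : R} {p q : ℕ} {u v : M}, p ≤ q → r ^ p • u = r ^ p • v →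
      r ^ q • u = r ^ q • v := fun {M r p q u v} hle huv => by
    rw [← Nat.sub_add_cancel hle, pow_add, mul_smul, mul_smul, huv]
  refine ⟨c + e, fun i => b i ^ e • h₁ i, fun i => b i ^ e • l₁ i, fun i j x => ?_, fun i j y => ?_,
    fun i x => ?_, fun i y => ?_⟩
  · have h1 := up (q := e) (by omega) (he₁ (i, j) x)
    simp only [LinearMap.smul_apply, smul_smul, mul_pow, pow_add] at h1 ⊢
    convert h1 using 2 <;> ring
  · have h1 := up (q := e) (by omega) (he₂ (i, j) y)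
    simp only [LinearMap.smul_apply, smul_smul, mul_pow, pow_add] at h1 ⊢
    convert h1 using 2 <;> ring
  · have h1 := up (q := e + e) (by omega) (he₃ i x)
    simp only [LinearMap.smul_apply, map_smul, smul_smul, ← pow_add] at h1 ⊢
    rw [h1]; congr 2; omega
  · have h1 := up (q := e + e) (by omega) (he₄ i y)
    simp only [LinearMap.smul_apply, map_smul, smul_smul, ← pow_add] at h1 ⊢
    rw [h1]; congr 2; omega

/-- A module map bijective off `V(a)` gives an isomorphism there. -/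
theorem isIso_restrict_map {K M : ModuleCat.{u} R} (p : K ⟶ M) {m : ℕ} (a : Fin m → R) (U : (Spec R).Opens)
    (hU : ∀ x ∈ U, ∃ k, x ∈ PrimeSpectrum.basicOpen (a k))
    (hinj : ∀ k w, p w = 0 → ∃ d : ℕ, a k ^ d • w = 0)
    (hsurj : ∀ k y, ∃ (d : ℕ) (w : K), p w = a k ^ d • y) :
    IsIso ((Scheme.Modules.restrictFunctor U.ι).map (tilde.map p)) := by
  have hD : ∀ (k : Fin m) (s : R), PrimeSpectrum.basicOpen s ≤ PrimeSpectrum.basicOpen (a k) →
      Function.Bijective ((tilde.map p).app (PrimeSpectrum.basicOpen s)) := by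
    intro k s hs
    obtain ⟨r, hr⟩ := (PrimeSpectrum.basicOpen_le_basicOpen_iff s (a k)).1 hs
    obtain ⟨t, ht⟩ := Ideal.mem_span_singleton'.1 hr
    haveI := isLocalizedModule_toSec K s rfl
    haveI := isLocalizedModule_toSec M s rfl
    let L : Γ(tilde K, PrimeSpectrum.basicOpen s) →ₗ[R] Γ(tilde M, PrimeSpectrum.basicOpen s) :=
      ((modulesSpecToSheaf.map (tilde.map p)).1.app (op (PrimeSpectrum.basicOpen s))).hom
    have hL : ∀ w, L (toSec K _ w) = toSec M _ (p w) := fun w =>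
      ConcreteCategory.congr_hom (tilde.toOpen_map_app p (PrimeSpectrum.basicOpen s)) w
    show Function.Bijective L
    refine ⟨(injective_iff_map_eq_zero _).2 fun z hz => ?_, fun z => ?_⟩
    · obtain ⟨⟨w, ⟨_, n, rfl⟩⟩, hw⟩ := IsLocalizedModule.surj (Submonoid.powers s) (toSec K _) z
      have h1 : toSec M (PrimeSpectrum.basicOpen s) (p w) = toSec M _ 0 := by
        rw [← hL, ← hw, Submonoid.smul_def, map_smul, hz, smul_zero, map_zero]
      obtain ⟨⟨_, q, rfl⟩, hq⟩ := (IsLocalizedModule.eq_iff_exists (Submonoid.powers s) _).1 h1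
      rw [Submonoid.smul_def, Submonoid.smul_def, smul_zero, ← map_smul] at hq
      obtain ⟨d, hd⟩ := hinj k _ hq
      have h2 : s ^ (r * d + q) • w = 0 := by
        rw [pow_add, pow_mul, ← ht, mul_pow, mul_assoc, mul_smul, mul_smul, hd, smul_zero]
      have h3 : s ^ (r * d + q + n) • z = 0 := by
        rw [pow_add, mul_smul, show s ^ n • z = _ from hw, ← map_smul, h2, map_zero]
      exact (IsLocalizedModule.map_units (toSec K _) (⟨s ^ (r * d + q + n), r * d + q + n, rfl⟩ : Submonoid.powers s) |>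
        (Module.End.isUnit_iff _).1).1 (by rw [Module.algebraMap_end_apply, map_zero]; exact h3)
    · obtain ⟨⟨y, ⟨_, n, rfl⟩⟩, hy⟩ := IsLocalizedModule.surj (Submonoid.powers s) (toSec M _) z
      obtain ⟨d, w, hw⟩ := hsurj k y
      obtain ⟨u, hu⟩ := ((Module.End.isUnit_iff _).1
        (IsLocalizedModule.map_units (toSec K (PrimeSpectrum.basicOpen s)) (⟨s ^ (r * d + n), r * d + n, rfl⟩ : Submonoid.powers s))).2 (t ^ d • toSec K _ w)
      refine ⟨u, ((Module.End.isUnit_iff _).1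
        (IsLocalizedModule.map_units (toSec M (PrimeSpectrum.basicOpen s)) (⟨s ^ (r * d + n), r * d + n, rfl⟩ : Submonoid.powers s))).1 ?_⟩
      have h1 := congrArg L hu
      simp only [Module.algebraMap_end_apply, map_smul, hL, hw] at h1 ⊢
      rw [h1, ← hy, Submonoid.smul_def, smul_smul, smul_smul, pow_add, pow_mul, ← ht, mul_pow]
  refine Scheme.Modules.Hom.isIso_iff_isIso_app.mpr fun W => ?_
  rw [ConcreteCategory.isIso_iff_bijective]
  refine TopCat.Presheaf.app_bijective_of_stalkFunctor_map_bijective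
    (F := (⟨(tilde K).presheaf, (tilde K).isSheaf⟩ : TopCat.Sheaf AddCommGrpCat (Spec R)))
    (G := ⟨(tilde M).presheaf, (tilde M).isSheaf⟩) ⟨(tilde.map p).mapPresheaf⟩ (U.ι ''ᵁ W) fun x hx => ?_
  obtain ⟨k, hk⟩ := hU x (U.ι_image_le W hx)
  have small : ∀ O : (Spec R).Opens, x ∈ O → ∃ s, x ∈ (PrimeSpectrum.basicOpen s : (Spec R).Opens) ∧
      PrimeSpectrum.basicOpen s ≤ O ∧ PrimeSpectrum.basicOpen s ≤ PrimeSpectrum.basicOpen (a k) := fun O hO => by
    obtain ⟨_, ⟨s, rfl⟩, h1, h2⟩ := (Opens.isBasis_iff_nbhd.1 PrimeSpectrum.isBasis_basic_opens)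
      (show x ∈ (O ⊓ PrimeSpectrum.basicOpen (a k) : TopologicalSpace.Opens (PrimeSpectrum R)) from ⟨hO, hk⟩)
    exact ⟨s, h1, h2.trans inf_le_left, h2.trans inf_le_right⟩
  let T := (TopCat.Presheaf.stalkFunctor AddCommGrpCat.{u} x).map (tilde.map p).mapPresheaf
  show Function.Bijective T
  refine ⟨(injective_iff_map_eq_zero _).2 fun z hz => ?_, fun z => ?_⟩
  · obtain ⟨O, hxO, σ, rfl⟩ := TopCat.Presheaf.exists_germ_eq (tilde K).presheaf z
    rw [TopCat.Presheaf.stalkFunctor_map_germ_apply] at hz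
    obtain ⟨O', hxO', i₁, i₂, hO'⟩ := (tilde M).presheaf.germ_eq x hxO hxO _ 0 (hz.trans (map_zero _).symm)
    obtain ⟨s, hxs, hsO, hsa⟩ := small O' hxO'
    rw [← (tilde K).presheaf.germ_res_apply (homOfLE (hsO.trans i₁.le)) x hxs σ]
    suffices h5 : (tilde K).presheaf.map (homOfLE (hsO.trans i₁.le)).op σ = 0 by
      exact (congrArg (ConcreteCategory.hom ((tilde K).presheaf.germ _ x hxs)) h5).trans (map_zero _)
    apply (hD k s hsa).1
    refine Eq.trans ?_ (map_zero _).symm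
    refine (ConcreteCategory.congr_hom ((tilde.map p).mapPresheaf.naturality (homOfLE (hsO.trans i₁.le)).op) σ).trans ?_
    have h4 := congrArg ((tilde M).presheaf.map (homOfLE hsO).op) hO'
    refine Eq.trans ?_ ((h4.trans (congrArg _ (map_zero _))).trans (map_zero _))
    have e1 : (tilde M).presheaf.map (homOfLE (hsO.trans i₁.le)).op =
        (tilde M).presheaf.map i₁.op ≫ (tilde M).presheaf.map (homOfLE hsO).op := by
      rw [← Functor.map_comp]; rfl
    exact ConcreteCategory.congr_hom e1 _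
  · obtain ⟨O, hxO, τ, rfl⟩ := TopCat.Presheaf.exists_germ_eq (tilde M).presheaf z
    obtain ⟨s, hxs, hsO, hsa⟩ := small O hxO
    obtain ⟨σ, hσ⟩ := (hD k s hsa).2 ((tilde M).presheaf.map (homOfLE hsO).op τ)
    refine ⟨(tilde K).presheaf.germ _ x hxs σ, ?_⟩
    rw [TopCat.Presheaf.stalkFunctor_map_germ_apply, ← (tilde M).presheaf.germ_res_apply (homOfLE hsO) x hxs τ]
    exact congrArg _ hσ

end Groth.Agent.ZarIsoLib
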